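import Groth.Agent.FilCxLib.Sub
import Groth.Prelude.Def_SpSeq

/-!
# Convergence of the spectral sequence of a filtered complex
-/

set_option autoImplicit false

universe v u

open CategoryTheory CategoryTheory.Limits SpSeq

namespace Groth.Agent.FilCxLib

variable {A : Type u} [Category.{v} A] [Abelian A]

section FilObj

variable (H : FilObj A)

lemma isSeparated_of_isFinite (h : H.IsFinite) : H.IsSeparated := by
  obtain ⟨-, b, hb⟩ := h
  exact ⟨fun _ _ => bot_le, fun x hx => (hx ⟨b, rfl⟩).trans hb.le⟩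

lemma isExhaustive_of_isFinite (h : H.IsFinite) : H.IsExhaustive := by
  obtain ⟨⟨a, ha⟩, -⟩ := h
  exact ⟨fun _ _ => le_top, fun x hx => ha.ge.trans (hx ⟨a, rfl⟩)⟩

lemma isComplete_of_isFinite (h : H.IsFinite) : H.IsComplete := by
  obtain ⟨-, b, hb⟩ := h
  intro T f hf
  have hiso : ∀ q, b ≤ q → IsIso (cokernel.π (H.fil q).arrow) := fun q hq => by
    have h0 : (H.fil q).arrow = 0 := by
      have := Subobject.ofLE_arrow ((H.anti hq).trans hb.le)
      rw [Subobject.bot_arrow, comp_zero] at this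
      exact this.symm
    rw [h0]
    infer_instance
  haveI := hiso b le_rfl
  refine ⟨f b ≫ inv (cokernel.π (H.fil b).arrow), fun p => ?_⟩
  rcases le_total p b with hp | hp
  · rw [← hf p b hp, Category.assoc]
    congr 1
    rw [IsIso.inv_comp_eq, FilObj.quotMap, cokernel.π_desc]
  · haveI := hiso p hp
    have hq : cokernel.π (H.fil p).arrow ≫ H.quotMap hp = cokernel.π (H.fil b).arrow :=
      cokernel.π_desc _ _ _
    haveI : IsIso (H.quotMap hp) := IsIso.of_isIso_fac_left hq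
    rw [← cancel_mono (H.quotMap hp), hf b p hp, Category.assoc, hq, Category.assoc,
      IsIso.inv_hom_id, Category.comp_id]

end FilObj

variable (K : FilCx A)

/-- The `p`-th step as a complex. -/
noncomputable abbrev F (p : ℤ) : CochainComplex A ℤ := (K.fil p : CochainComplex A ℤ)

/-- Its inclusion. -/
noncomputable abbrev ι (p : ℤ) : F K p ⟶ K.obj := (K.fil p).arrow

/-- Transition maps. -/
noncomputable abbrev incl {p q : ℤ} (h : p ≤ q) : F K q ⟶ F K p :=
  (K.fil q).ofLE (K.fil p) (K.anti h)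

lemma incl_f_ι {p q : ℤ} (h : p ≤ q) (n : ℤ) : (incl K h).f n ≫ (ι K p).f n = (ι K q).f n := by
  rw [← HomologicalComplex.comp_f, Subobject.ofLE_arrow]

lemma mem_filX {p n : ℤ} {W : A} (x : W ⟶ K.obj.X n) :
    (K.filX p n).Factors x ↔ ∃ y : W ⟶ (F K p).X n, y ≫ (ι K p).f n = x :=
  Subobject.mk_factors_iff _ _

lemma filX_comp {p n : ℤ} {W : A} (y : W ⟶ (F K p).X n) :
    (K.filX p n).Factors (y ≫ (ι K p).f n) := (mem_filX K _).2 ⟨y, rfl⟩

lemma factors_d {p n m : ℤ} {W : A} {x : W ⟶ K.obj.X n} (hx : (K.filX p n).Factors x) :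
    (K.filX p m).Factors (x ≫ K.obj.d n m) := by
  obtain ⟨y, rfl⟩ := (mem_filX K x).1 hx
  exact (mem_filX K _).2 ⟨y ≫ (F K p).d n m, by simp⟩

lemma ZTop_le (r : ℕ) (p n : ℤ) : K.ZTop p n ≤ K.ZSub r p n :=
  sup_le_sup_right (inf_le_inf_left _ (FilCx.kernelSubobject_le_pullback _ _)) _

lemma BSub_le_BBot (r : ℕ) (p n : ℤ) : K.BSub r p n ≤ K.BBot p n :=
  sup_le_sup_right (inf_le_inf_left _ (imageSubobject_comp_le _ _)) _

lemma weaklyConverges_of_eventually
    (hZ : ∀ p n : ℤ, ∃ r₀ : ℕ, ∀ r, r₀ ≤ r → K.ZSub r p n ≤ K.ZTop p n)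
    (hB : ∀ p n : ℤ, ∃ r₀ : ℕ, ∀ r, r₀ ≤ r → K.BBot p n ≤ K.BSub r p n) :
    K.IsRegular ∧ K.WeaklyConverges := by
  refine ⟨fun p n => ?_, fun p n => ⟨?_, ?_⟩⟩
  · obtain ⟨r₀, h⟩ := hZ p n
    exact ⟨r₀, fun r hr => le_antisymm ((h r hr).trans (ZTop_le K r₀ p n))
      ((h r₀ le_rfl).trans (ZTop_le K r p n))⟩
  · obtain ⟨r₀, h⟩ := hZ p n
    refine ⟨?_, fun S hS => (hS ⟨r₀, rfl⟩).trans (h r₀ le_rfl)⟩
    rintro _ ⟨r, rfl⟩
    exact ZTop_le K r p n
  · obtain ⟨r₀, h⟩ := hB p n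
    refine ⟨?_, fun S hS => (h r₀ le_rfl).trans (hS ⟨r₀, rfl⟩)⟩
    rintro _ ⟨r, rfl⟩
    exact BSub_le_BBot K r p n

/-- `E_r^{p,n-p} = 0` when the numerator is contained in the denominator. -/
lemma isZero_E {r : ℕ} {p n : ℤ} (h : K.ZSub r p n ≤ K.BSub r p n) : IsZero (K.E r p n) :=
  isZero_subquot _ h

lemma isBounded_of_le (r : ℕ)
    (h : ∀ n : ℤ, ∃ a b : ℤ, ∀ p : ℤ, p ≤ a ∨ b ≤ p → K.ZSub r p n ≤ K.BSub r p n) :
    K.IsBounded r := fun n => by
  obtain ⟨a, b, h⟩ := h n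
  refine (Set.finite_Icc a b).subset fun p hp => ?_
  by_contra hab
  refine hp (isZero_E K (h p ?_))
  simp only [Set.mem_Icc, not_and_or, not_le] at hab
  omega

lemma mem_filH {p n : ℤ} {W : A} (x : W ⟶ K.obj.homology n) :
    (K.filH p n).Factors x ↔ ∃ (W' : A) (π : W' ⟶ W) (_ : Epi π) (y : W' ⟶ (F K p).homology n),
      π ≫ x = y ≫ HomologicalComplex.homologyMap (ι K p) n :=
  mem_image x

lemma filH_eq_top {p n : ℤ} [Epi (HomologicalComplex.homologyMap (ι K p) n)] : K.filH p n = ⊤ := by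
  refine top_le_iff.1 (le_of_mem fun W x _ => (mem_filH K x).2 ?_)
  exact surjective_up_to_refinements_of_epi _ x

lemma filH_eq_bot {p n : ℤ} (h : IsZero ((F K p).homology n)) : K.filH p n = ⊥ := by
  refine le_bot_iff.1 (le_of_mem fun W x hx => ?_)
  obtain ⟨W', π, _, y, hy⟩ := (mem_filH K x).1 hx
  rw [h.eq_of_tgt y 0, zero_comp] at hy
  rw [zero_of_epi_comp π hy]
  exact Subobject.factors_zero

lemma converges_of_eventually
    (hZ : ∀ p n : ℤ, ∃ r₀ : ℕ, ∀ r, r₀ ≤ r → K.ZSub r p n ≤ K.ZTop p n)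
    (hB : ∀ p n : ℤ, ∃ r₀ : ℕ, ∀ r, r₀ ≤ r → K.BBot p n ≤ K.BSub r p n)
    (hH : ∀ n : ℤ, (K.HFil n).IsFinite) : K.Converges := by
  obtain ⟨h1, h2⟩ := weaklyConverges_of_eventually K hZ hB
  exact ⟨h1, ⟨h2, fun n => ⟨isSeparated_of_isFinite _ (hH n), isExhaustive_of_isFinite _ (hH n)⟩⟩,
    fun n => isComplete_of_isFinite _ (hH n)⟩

/-! ## Degreewise finite filtrations -/

section Finite

variable {K} (hK : ∀ n : ℤ, (K.XFil n).IsFinite)

include hK

lemma exists_top (n : ℤ) : ∃ a : ℤ, ∀ p ≤ a, K.filX p n = ⊤ := by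
  obtain ⟨⟨a, ha⟩, -⟩ := hK n
  exact ⟨a, fun p hp => top_le_iff.1 (ha.ge.trans ((K.XFil n).anti hp))⟩

lemma exists_bot (n : ℤ) : ∃ b : ℤ, ∀ p, b ≤ p → K.filX p n = ⊥ := by
  obtain ⟨-, b, hb⟩ := hK n
  exact ⟨b, fun p hp => le_bot_iff.1 (((K.XFil n).anti hp).trans hb.le)⟩

lemma hFil_finite (n : ℤ) : (K.HFil n).IsFinite := by
  obtain ⟨a, ha⟩ := exists_top hK n
  obtain ⟨b, hb⟩ := exists_bot hK n
  refine ⟨⟨a, ?_⟩, ⟨b, filH_eq_bot K ?_⟩⟩
  · suffices Epi (HomologicalComplex.homologyMap (ι K a) n) from filH_eq_top K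
    rw [HomologicalComplex.epi_homologyMap_iff_up_to_refinements _ (n - 1) n (n + 1)
      (CochainComplex.prev _ _) (CochainComplex.next _ _)]
    intro W y hy
    obtain ⟨x, rfl⟩ := (mem_filX K y).1 (by rw [ha a le_rfl]; exact Subobject.top_factors _)
    refine ⟨W, 𝟙 _, inferInstance, x, ?_, 0, by simp⟩
    rw [← cancel_mono ((ι K a).f (n + 1)), zero_comp, Category.assoc,
      ← HomologicalComplex.Hom.comm, ← Category.assoc, hy]
  · have h0 : IsZero ((F K b).X n) := by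
      rw [IsZero.iff_id_eq_zero, ← cancel_mono ((ι K b).f n), zero_comp, Category.id_comp]
      have := filX_comp K (p := b) (𝟙 ((F K b).X n))
      rw [hb b le_rfl, Subobject.bot_factors_iff_zero, Category.id_comp] at this
      exact this
    exact (HomologicalComplex.ExactAt.of_isZero h0).isZero_homology

lemma isBounded_zero : K.IsBounded 0 := isBounded_of_le K 0 fun n => by
  obtain ⟨a, ha⟩ := exists_top hK n
  obtain ⟨b, hb⟩ := exists_bot hK n
  refine ⟨a - 1, b, fun p hp => ?_⟩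
  rcases hp with hp | hp
  · exact le_trans le_top ((ha (p + 1) (by omega)).ge.trans le_sup_right)
  · exact sup_le (le_trans (inf_le_left.trans (hb p hp).le) bot_le) le_sup_right

lemma converges : K.Converges := converges_of_eventually K
  (fun p n => by
    obtain ⟨b, hb⟩ := exists_bot hK (n + 1)
    refine ⟨(b - p).toNat, fun r hr => le_of_eq ?_⟩
    rw [FilCx.ZSub, FilCx.ZTop, hb (p + r) (by omega)]
    congr 2
    refine le_antisymm (le_of_mem fun W x hx => ?_) (FilCx.kernelSubobject_le_pullback _ _)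
    rw [mem_pullback, Subobject.bot_factors_iff_zero] at hx
    exact (mem_kernel _ _).2 hx)
  (fun p n => by
    obtain ⟨a, ha⟩ := exists_top hK (n - 1)
    refine ⟨(p + 1 - a).toNat, fun r hr => le_of_eq ?_⟩
    rw [FilCx.BSub, FilCx.BBot]
    congr 2
    have htop := ha (p - r + 1) (by omega)
    refine le_antisymm (le_of_mem fun W x hx => ?_) (imageSubobject_comp_le _ _)
    obtain ⟨W', π, hπ, y, hy⟩ := (mem_image x).1 hx
    exact (mem_image x).2 ⟨W', π, hπ, (K.filX (p - r + 1) (n - 1)).factorThru y (htop ▸ Subobject.top_factors _),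
      by rw [hy, Subobject.factorThru_arrow_assoc]⟩)
  (hFil_finite hK)

end Finite

/-! ## Filtrations finite on cohomology -/

section Cohomological

variable {K}
  (h0 : ∀ n : ℤ, ∃ p₀ : ℤ, ∀ p : ℤ, p₀ ≤ p → IsZero ((F K p).homology n))
  (h1 : ∀ n : ℤ, ∃ p₁ : ℤ, ∀ p : ℤ, p ≤ p₁ → IsIso (HomologicalComplex.homologyMap (ι K p) n))

lemma boundary_of_isZero {p i j : ℤ} (hij : i + 1 = j) (h : IsZero ((F K p).homology j)) {W : A}
    (z : W ⟶ (F K p).X j) (hz : z ≫ (F K p).d j (j + 1) = 0) :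
    ∃ (W' : A) (π : W' ⟶ W) (_ : Epi π) (y : W' ⟶ (F K p).X i),
      π ≫ z = y ≫ (F K p).d i j :=
  ((F K p).exactAt_iff_exact_up_to_refinements i j (j + 1) (by simp [← hij])
    (CochainComplex.next _ _)).1 ((HomologicalComplex.exactAt_iff_isZero_homology _ _).2 h) z hz

lemma boundary_of_mono {p i j : ℤ} (hij : i + 1 = j)
    [Mono (HomologicalComplex.homologyMap (ι K p) j)] {W : A}
    (z : W ⟶ (F K p).X j) (hz : z ≫ (F K p).d j (j + 1) = 0) (y : W ⟶ K.obj.X i)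
    (hy : z ≫ (ι K p).f j = y ≫ K.obj.d i j) :
    ∃ (W' : A) (π : W' ⟶ W) (_ : Epi π) (y : W' ⟶ (F K p).X i),
      π ≫ z = y ≫ (F K p).d i j :=
  (HomologicalComplex.mono_homologyMap_iff_up_to_refinements (ι K p) i j (j + 1)
    (by simp [← hij]) (CochainComplex.next _ _)).1 inferInstance z hz y hy

include h0 in
lemma hZ (p n : ℤ) : ∃ r₀ : ℕ, ∀ r, r₀ ≤ r → K.ZSub r p n ≤ K.ZTop p n := by
  obtain ⟨p₀, hp₀⟩ := h0 (n + 1)
  refine ⟨(p₀ - p).toNat + 1, fun r hr => sup_le (le_of_mem fun W x hx => ?_) le_sup_right⟩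
  rw [mem_inf, mem_pullback] at hx
  obtain ⟨hxp, hxd⟩ := hx
  obtain ⟨z, hz⟩ := (mem_filX K _).1 hxd
  have hzc : z ≫ (F K (p + r)).d (n + 1) (n + 1 + 1) = 0 := by
    rw [← cancel_mono ((ι K (p + r)).f (n + 1 + 1)), zero_comp, Category.assoc,
      ← HomologicalComplex.Hom.comm, ← Category.assoc, hz, Category.assoc,
      HomologicalComplex.d_comp_d, comp_zero]
  obtain ⟨W', π, hπ, y, hy⟩ := boundary_of_isZero (i := n) rfl (hp₀ _ (by omega)) z hzc
  rw [FilCx.ZTop, mem_sup]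
  refine ⟨W', π, hπ, π ≫ x - y ≫ (ι K (p + r)).f n, y ≫ (ι K (p + r)).f n,
    (mem_inf _).2 ⟨factors_sub (Subobject.factors_of_factors_right π hxp)
      (Subobject.factors_of_le _ (K.filX_anti n (by omega)) (filX_comp K y)), ?_⟩,
    Subobject.factors_of_le _ (K.filX_anti n (by omega)) (filX_comp K y), (sub_add_cancel _ _).symm⟩
  rw [mem_kernel, Preadditive.sub_comp, Category.assoc, Category.assoc, HomologicalComplex.Hom.comm,
    ← reassoc_of% hy, hz, sub_self]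

include h1 in
lemma hB (p n : ℤ) : ∃ r₀ : ℕ, ∀ r, r₀ ≤ r → K.BBot p n ≤ K.BSub r p n := by
  obtain ⟨p₁, hp₁⟩ := h1 n
  refine ⟨(p + 1 - p₁).toNat + 1, fun r hr => sup_le (le_of_mem fun W x hx => ?_) le_sup_right⟩
  rw [mem_inf] at hx
  obtain ⟨hxp, hxd⟩ := hx
  obtain ⟨W', π, hπ, y, hy⟩ := (mem_image x).1 hxd
  obtain ⟨z, hz⟩ := (mem_filX K (π ≫ x)).1 (Subobject.factors_of_le _
    (K.filX_anti n (show p - r + 1 ≤ p by omega)) (Subobject.factors_of_factors_right π hxp))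
  have hzc : z ≫ (F K (p - r + 1)).d n (n + 1) = 0 := by
    rw [← cancel_mono ((ι K (p - r + 1)).f (n + 1)), zero_comp, Category.assoc,
      ← HomologicalComplex.Hom.comm, ← Category.assoc, hz, hy, Category.assoc,
      HomologicalComplex.d_comp_d, comp_zero]
  haveI := hp₁ (p - r + 1) (by omega)
  obtain ⟨W'', π', hπ', y', hy'⟩ := boundary_of_mono (i := n - 1) (by omega) z hzc y (by rw [hz, hy])
  refine Subobject.sup_factors_of_factors_left ((mem_inf _).2 ⟨hxp, (mem_image x).2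
    ⟨W'', π' ≫ π, inferInstance, (K.filX (p - r + 1) (n - 1)).factorThru _ (filX_comp K y'), ?_⟩⟩)
  rw [Category.assoc, ← hz, reassoc_of% hy', Subobject.factorThru_arrow_assoc, Category.assoc,
    HomologicalComplex.Hom.comm]

include h0 h1

lemma hFil_finite' (n : ℤ) : (K.HFil n).IsFinite := by
  obtain ⟨p₀, hp₀⟩ := h0 n
  obtain ⟨p₁, hp₁⟩ := h1 n
  haveI := hp₁ p₁ le_rfl
  exact ⟨⟨p₁, filH_eq_top K⟩, ⟨p₀, filH_eq_bot K (hp₀ p₀ le_rfl)⟩⟩

lemma isBounded_one : K.IsBounded 1 := isBounded_of_le K 1 fun n => by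
  obtain ⟨b, hb⟩ := h0 n
  obtain ⟨b', hb'⟩ := h0 (n + 1)
  obtain ⟨a, ha⟩ := h1 n
  obtain ⟨a', ha'⟩ := h1 (n + 1)
  refine ⟨min a a' - 1, max b b', fun p hp => sup_le (le_of_mem fun W x hx => ?_) le_sup_right⟩
  rw [mem_inf, mem_pullback] at hx
  obtain ⟨hxp, hxd⟩ := hx
  obtain ⟨x', hx'⟩ := (mem_filX K x).1 hxp
  obtain ⟨z, hz⟩ := (mem_filX K (x ≫ K.obj.d n (n + 1))).1 hxd
  have hzc : z ≫ (F K (p + (1 : ℕ))).d (n + 1) (n + 1 + 1) = 0 := by
    rw [← cancel_mono ((ι K (p + (1 : ℕ))).f (n + 1 + 1)), zero_comp, Category.assoc,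
      ← HomologicalComplex.Hom.comm, ← Category.assoc, hz, Category.assoc,
      HomologicalComplex.d_comp_d, comp_zero]
  -- a primitive of `d x` in the next step
  have hprim : ∃ (W' : A) (π : W' ⟶ W) (_ : Epi π) (y : W' ⟶ (F K (p + (1 : ℕ))).X n),
      π ≫ z = y ≫ (F K (p + (1 : ℕ))).d n (n + 1) := by
    rcases hp with hp | hp
    · haveI := ha' (p + (1 : ℕ)) (by omega)
      exact boundary_of_mono rfl z hzc x hz
    · exact boundary_of_isZero rfl (hb' _ (by omega)) z hzc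
  obtain ⟨W₁, π₁, _, y, hy⟩ := hprim
  let c : W₁ ⟶ (F K p).X n := π₁ ≫ x' - y ≫ (incl K (by omega)).f n
  have hc : c ≫ (ι K p).f n = π₁ ≫ x - y ≫ (ι K (p + (1 : ℕ))).f n := by
    simp only [c, Preadditive.sub_comp, Category.assoc, hx', incl_f_ι]
  have hcc : c ≫ (F K p).d n (n + 1) = 0 := by
    rw [← cancel_mono ((ι K p).f (n + 1)), zero_comp, Category.assoc,
      ← HomologicalComplex.Hom.comm, ← Category.assoc, hc, Preadditive.sub_comp, Category.assoc,
      Category.assoc, HomologicalComplex.Hom.comm, ← reassoc_of% hy, hz, sub_self]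
  -- the cycle `c` is a boundary in step `p` up to the next step
  have hbd : ∃ (W₂ : A) (π₂ : W₂ ⟶ W₁) (_ : Epi π₂) (e : W₂ ⟶ (F K p).X (n - 1))
      (w : W₂ ⟶ (F K (p + (1 : ℕ))).X n),
      π₂ ≫ c = e ≫ (F K p).d (n - 1) n + w ≫ (incl K (by omega)).f n := by
    rcases hp with hp | hp
    · haveI := ha p (by omega)
      haveI := ha (p + (1 : ℕ)) (by omega)
      obtain ⟨W₂, π₂, _, w, hw, e, he⟩ := (HomologicalComplex.epi_homologyMap_iff_up_to_refinements
        (ι K (p + (1 : ℕ))) (n - 1) n (n + 1) (CochainComplex.prev _ _) (CochainComplex.next _ _)).1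
        inferInstance (c ≫ (ι K p).f n) (by
          rw [Category.assoc, HomologicalComplex.Hom.comm, reassoc_of% hcc, zero_comp])
      obtain ⟨W₃, π₃, _, e', he'⟩ := boundary_of_mono (p := p) (i := n - 1) (by omega) (π₂ ≫ c - w ≫ (incl K (by omega)).f n)
        (by rw [Preadditive.sub_comp, Category.assoc, hcc, comp_zero, Category.assoc,
          HomologicalComplex.Hom.comm, reassoc_of% hw, zero_comp, sub_zero]) e (by
          simp only [Preadditive.sub_comp, Category.assoc, incl_f_ι]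
          rw [he, add_sub_cancel_left])
      refine ⟨W₃, π₃ ≫ π₂, inferInstance, e', π₃ ≫ w, ?_⟩
      rw [← he']
      simp
    · obtain ⟨W₂, π₂, _, e, he⟩ := boundary_of_isZero (i := n - 1) (by omega) (hb p (by omega)) c hcc
      exact ⟨W₂, π₂, inferInstance, e, 0, by rw [he, zero_comp, add_zero]⟩
  obtain ⟨W₂, π₂, _, e, w, he⟩ := hbd
  rw [FilCx.BSub, mem_sup]
  refine ⟨W₂, π₂ ≫ π₁, inferInstance, (e ≫ (ι K p).f (n - 1)) ≫ K.obj.d (n - 1) n,
    (w + π₂ ≫ y) ≫ (ι K (p + (1 : ℕ))).f n, (mem_inf _).2 ⟨factors_d K (filX_comp K e), (mem_image _).2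
      ⟨W₂, 𝟙 _, inferInstance, (K.filX (p - (1 : ℕ) + 1) (n - 1)).factorThru _
        (Subobject.factors_of_le _ (K.filX_anti _ (by omega)) (filX_comp K e)), by simp⟩⟩,
    Subobject.factors_of_le _ (K.filX_anti _ (by omega)) (filX_comp K _), ?_⟩
  have := congrArg (· ≫ (ι K p).f n) he
  simp only [Category.assoc, hc, Preadditive.add_comp, incl_f_ι, Preadditive.comp_sub,
    ← HomologicalComplex.Hom.comm] at this
  rw [Category.assoc, Category.assoc, Preadditive.add_comp, Category.assoc]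
  linear_combination (norm := abel) this

lemma converges' : K.Converges := converges_of_eventually K (hZ h0) (hB h1) (hFil_finite' h0 h1)

end Cohomological

end Groth.Agent.FilCxLib
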