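import Groth.Agent.FilCxLib.Sub

/-!
# Subquotients
-/

set_option autoImplicit false

universe v u

open CategoryTheory CategoryTheory.Limits

namespace Groth.Agent.FilCxLib

variable {A : Type u} [Category.{v} A] [Abelian A] {X : A}

/-- The subquotient `Z / B`. -/
noncomputable abbrev Q (Z B : Subobject X) (h : B ≤ Z) : A := cokernel (B.ofLE Z h)

/-- The class of an element of `Z`. -/
noncomputable def cls (Z B : Subobject X) (h : B ≤ Z) {W : A} (x : W ⟶ X) (hx : Z.Factors x) :
    W ⟶ Q Z B h := Z.factorThru x hx ≫ cokernel.π _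

variable {Z B : Subobject X} {h : B ≤ Z}

lemma cls_comp {W W' : A} (π : W' ⟶ W) (x : W ⟶ X) (hx : Z.Factors x) :
    π ≫ cls Z B h x hx = cls Z B h (π ≫ x) (Subobject.factors_of_factors_right π hx) := by
  rw [cls, cls, ← Category.assoc]
  congr 1
  rw [← cancel_mono Z.arrow, Category.assoc, Subobject.factorThru_arrow, Subobject.factorThru_arrow]

lemma cls_congr {W : A} {x y : W ⟶ X} (e : x = y) (hx : Z.Factors x) :
    cls Z B h x hx = cls Z B h y (e ▸ hx) := by subst e; rfl

lemma cls_eq_zero {W : A} (x : W ⟶ X) (hx : Z.Factors x) : cls Z B h x hx = 0 ↔ B.Factors x := by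
  constructor
  · intro e
    obtain ⟨W', π, hπ, y, hy⟩ := (ShortComplex.exact_of_g_is_cokernel
      (ShortComplex.mk (B.ofLE Z h) (cokernel.π _) (cokernel.condition _))
        (cokernelIsCokernel _)).exact_up_to_refinements (Z.factorThru x hx) e
    refine factors_of_epi _ π x ?_
    have := hy =≫ Z.arrow
    simp only [Category.assoc, Subobject.factorThru_arrow, Subobject.ofLE_arrow] at this
    rw [this]
    exact Subobject.factors_comp_arrow _
  · intro hB
    have : Z.factorThru x hx = B.factorThru x hB ≫ B.ofLE Z h := by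
      rw [← cancel_mono Z.arrow]; simp
    rw [cls, this, Category.assoc, cokernel.condition, comp_zero]

lemma cls_sub {W : A} {x y : W ⟶ X} (hx : Z.Factors x) (hy : Z.Factors y) :
    cls Z B h (x - y) (factors_sub hx hy) = cls Z B h x hx - cls Z B h y hy := by
  rw [cls, cls, cls, ← Preadditive.sub_comp]
  congr 1
  rw [← cancel_mono Z.arrow]
  simp

lemma cls_eq_of_sub {W : A} {x y : W ⟶ X} (hx : Z.Factors x) (hy : Z.Factors y)
    (hd : B.Factors (x - y)) : cls Z B h x hx = cls Z B h y hy := by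
  rw [← sub_eq_zero, ← cls_sub hx hy, cls_eq_zero]
  exact hd

lemma cls_surj {W : A} (q : W ⟶ Q Z B h) :
    ∃ (W' : A) (π : W' ⟶ W) (_ : Epi π) (x : W' ⟶ X) (hx : Z.Factors x),
      π ≫ q = cls Z B h x hx := by
  obtain ⟨W', π, hπ, y, hy⟩ := surjective_up_to_refinements_of_epi (cokernel.π (B.ofLE Z h)) q
  refine ⟨W', π, hπ, y ≫ Z.arrow, Subobject.factors_comp_arrow _, ?_⟩
  rw [hy, cls, Subobject.factorThru_comp_arrow]

/-- A morphism out of `Z / B` from a morphism out of `C`, when `Z = C + B`. -/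
lemma exists_desc (C : Subobject X) (hC : C ≤ Z) (hZ : Z ≤ C ⊔ B) {Y : A} (φ : (C : A) ⟶ Y)
    (hφ : ∀ ⦃W : A⦄ (x : W ⟶ X) (hx : C.Factors x), B.Factors x → C.factorThru x hx ≫ φ = 0) :
    ∃ ψ : Q Z B h ⟶ Y, ∀ ⦃W : A⦄ (x : W ⟶ X) (hx : C.Factors x),
      cls Z B h x (Subobject.factors_of_le x hC hx) ≫ ψ = C.factorThru x hx ≫ φ := by
  let u : (C : A) ⟶ Q Z B h := C.ofLE Z hC ≫ cokernel.π _
  have hu : ∀ ⦃W : A⦄ (x : W ⟶ X) (hx : C.Factors x),
      C.factorThru x hx ≫ u = cls Z B h x (Subobject.factors_of_le x hC hx) := fun W x hx => by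
    rw [cls, ← Category.assoc]
    congr 1
    rw [← cancel_mono Z.arrow]
    simp
  haveI : Epi u := by
    rw [epi_iff_surjective_up_to_refinements]
    intro W q
    obtain ⟨W₁, π₁, _, x, hx, e⟩ := cls_surj q
    obtain ⟨W₂, π₂, _, a, b, ha, hb, e'⟩ := (mem_sup x).1 (Subobject.factors_of_le x hZ hx)
    refine ⟨W₂, π₂ ≫ π₁, inferInstance, C.factorThru a ha, ?_⟩
    rw [Category.assoc, e, cls_comp, hu]
    refine cls_eq_of_sub _ _ ?_
    rw [e', add_sub_cancel_left]
    exact hb
  have hk : kernel.ι u ≫ φ = 0 := by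
    have hm : C.Factors (kernel.ι u ≫ C.arrow) := Subobject.factors_comp_arrow _
    have e : C.factorThru _ hm = kernel.ι u := Subobject.factorThru_comp_arrow _ _
    rw [← e]
    refine hφ _ hm ((cls_eq_zero (h := h) _ (Subobject.factors_of_le _ hC hm)).1 ?_)
    rw [← hu _ hm, e, kernel.condition]
  exact ⟨Abelian.epiDesc u φ hk, fun W x hx => by
    rw [← hu x hx, Category.assoc, Abelian.comp_epiDesc]⟩

end Groth.Agent.FilCxLib
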