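import Groth.Agent.FilCxLib.Basic
import Groth.Agent.FilCxLib.Subquot

/-!
# Weak Serre classes and the pages of the spectral sequence
-/

set_option autoImplicit false

universe v u

open CategoryTheory CategoryTheory.Limits SpSeq

namespace Groth.Agent.FilCxLib

variable {A : Type u} [Category.{v} A] [Abelian A]

section WeakSerre

variable (P : ObjectProperty A) [P.IsClosedUnderIsomorphisms] (h0 : ∃ Z : A, IsZero Z ∧ P Z)
  (hP : ∀ S : ComposableArrows A 4, S.Exact → P (S.obj 0) → P (S.obj 1) → P (S.obj 3) → P (S.obj 4) →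
    P (S.obj 2))

include hP in
lemma mem_of_five {X₀ X₁ X₂ X₃ X₄ : A} (a : X₀ ⟶ X₁) (b : X₁ ⟶ X₂) (c : X₂ ⟶ X₃) (d : X₃ ⟶ X₄)
    (hab : a ≫ b = 0) (hbc : b ≫ c = 0) (hcd : c ≫ d = 0)
    (e₁ : (ShortComplex.mk a b hab).Exact) (e₂ : (ShortComplex.mk b c hbc).Exact)
    (e₃ : (ShortComplex.mk c d hcd).Exact) (p₀ : P X₀) (p₁ : P X₁) (p₃ : P X₃) (p₄ : P X₄) : P X₂ := by
  refine hP (ComposableArrows.mk₄ a b c d) ?_ p₀ p₁ p₃ p₄
  exact ComposableArrows.exact_of_δ₀ e₁.exact_toComposableArrows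
    (ComposableArrows.exact_of_δ₀ e₂.exact_toComposableArrows e₃.exact_toComposableArrows)

include h0 hP

lemma mem_kernel_of {X Y Z : A} (f : X ⟶ Y) (g : Y ⟶ Z) (w : f ≫ g = 0)
    (he : (ShortComplex.mk f g w).Exact) [Mono f] (hY : P Y) (hZ : P Z) : P X := by
  obtain ⟨O, hO, pO⟩ := h0
  refine mem_of_five P hP (𝟙 O) (0 : O ⟶ X) f g (by simp) zero_comp w
    (ShortComplex.exact_of_isZero_X₂ _ hO) ?_ he pO pO hY hZ
  rw [ShortComplex.exact_iff_mono _ rfl]
  infer_instance

lemma mem_cokernel_of {X Y Z : A} (f : X ⟶ Y) (g : Y ⟶ Z) (w : f ≫ g = 0)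
    (he : (ShortComplex.mk f g w).Exact) [Epi g] (hX : P X) (hY : P Y) : P Z := by
  obtain ⟨O, hO, pO⟩ := h0
  refine mem_of_five P hP f g (0 : Z ⟶ O) (𝟙 O) w comp_zero (by simp) he ?_
    (ShortComplex.exact_of_isZero_X₂ _ hO) hX hY pO pO
  rw [ShortComplex.exact_iff_epi _ rfl]
  infer_instance

lemma mem_ext_of {X Y Z : A} (f : X ⟶ Y) (g : Y ⟶ Z) (w : f ≫ g = 0)
    (he : (ShortComplex.mk f g w).Exact) [Mono f] [Epi g] (hX : P X) (hZ : P Z) : P Y := by
  obtain ⟨O, hO, pO⟩ := h0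
  refine mem_of_five P hP (0 : O ⟶ X) f g (0 : Z ⟶ O) zero_comp w comp_zero ?_ he ?_ pO hX hZ pO
  · rw [ShortComplex.exact_iff_mono _ rfl]; infer_instance
  · rw [ShortComplex.exact_iff_epi _ rfl]; infer_instance

end WeakSerre

section Pages

variable (K : FilCx A)

/-- `F^p ⊓ d⁻¹ F^{p+r}`. -/
noncomputable abbrev CSub (r : ℕ) (p n : ℤ) : Subobject (K.obj.X n) :=
  K.filX p n ⊓ (Subobject.pullback (K.obj.d n (n + 1))).obj (K.filX (p + r) (n + 1))

lemma mem_CSub {r : ℕ} {p n : ℤ} {W : A} (x : W ⟶ K.obj.X n) :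
    (CSub K r p n).Factors x ↔
      (K.filX p n).Factors x ∧ (K.filX (p + r) (n + 1)).Factors (x ≫ K.obj.d n (n + 1)) := by
  rw [mem_inf, mem_pullback]

lemma mem_BSub_core {r : ℕ} {q p i j : ℤ} (hq : p - r + 1 = q) (hi : j - 1 = i) {W : A}
    (y : W ⟶ K.obj.X i) (hy : (K.filX q i).Factors y)
    (hx : (K.filX p j).Factors (y ≫ K.obj.d i j)) : (K.BSub r p j).Factors (y ≫ K.obj.d i j) := by
  subst hq hi
  exact Subobject.sup_factors_of_factors_left ((mem_inf _).2 ⟨hx, (mem_image _).2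
    ⟨W, 𝟙 _, inferInstance, Subobject.factorThru _ y hy, by simp⟩⟩)

lemma decomp_BSub {r : ℕ} {q p i j : ℤ} (hq : p - r + 1 = q) (hi : j - 1 = i) {W : A}
    (x : W ⟶ K.obj.X j) (hx : (K.BSub r p j).Factors x) :
    ∃ (W' : A) (π : W' ⟶ W) (_ : Epi π) (y : W' ⟶ K.obj.X i) (g : W' ⟶ K.obj.X j),
      (K.filX q i).Factors y ∧ (K.filX p j).Factors (y ≫ K.obj.d i j) ∧
        (K.filX (p + 1) j).Factors g ∧ π ≫ x = y ≫ K.obj.d i j + g := by
  subst hq hi
  obtain ⟨W₁, π₁, _, a, g, ha, hg, e⟩ := (mem_sup x).1 hx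
  rw [mem_inf] at ha
  obtain ⟨W₂, π₂, _, y, hy⟩ := (mem_image a).1 ha.2
  refine ⟨W₂, π₂ ≫ π₁, inferInstance, y ≫ Subobject.arrow _, π₂ ≫ g, Subobject.factors_comp_arrow _,
    ?_, Subobject.factors_of_factors_right π₂ hg, ?_⟩
  · rw [Category.assoc, ← hy]; exact Subobject.factors_of_factors_right π₂ ha.1
  · rw [Category.assoc, Category.assoc, ← hy, ← Preadditive.comp_add, ← e]

lemma ZSub_succ_le (r : ℕ) (p n : ℤ) : K.ZSub (r + 1) p n ≤ K.ZSub r p n :=
  sup_le_sup_right (inf_le_inf_left _ (le_of_mem fun W x hx => by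
    rw [mem_pullback] at hx ⊢
    exact Subobject.factors_of_le _ (K.filX_anti (n + 1) (by simp)) hx)) _

lemma BSub_le_succ (r : ℕ) (p n : ℤ) : K.BSub r p n ≤ K.BSub (r + 1) p n :=
  sup_le_sup_right (inf_le_inf_left _ (le_of_mem fun W x hx => by
    obtain ⟨W', π, hπ, y, hy⟩ := (mem_image x).1 hx
    refine (mem_image x).2 ⟨W', π, hπ, Subobject.factorThru _ _ (Subobject.factors_of_le _
      (K.filX_anti (n - 1) (show p - ((r + 1 : ℕ) : ℤ) + 1 ≤ p - r + 1 by omega))
      (Subobject.factors_comp_arrow y)), ?_⟩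
    rw [hy, Subobject.factorThru_arrow_assoc, Category.assoc])) _

lemma BSub_le_ZSub_succ (r : ℕ) (p n : ℤ) : K.BSub r p n ≤ K.ZSub (r + 1) p n :=
  sup_le_sup_right (inf_le_inf_left _ (K.image_d_le_pullback n _ _)) _

variable (P : ObjectProperty A) [P.IsClosedUnderIsomorphisms] (h0 : ∃ Z : A, IsZero Z ∧ P Z)
  (hP : ∀ S : ComposableArrows A 4, S.Exact → P (S.obj 0) → P (S.obj 1) → P (S.obj 3) → P (S.obj 4) →
    P (S.obj 2))

include h0 hP in
/-- The kernel of the differential out of `(p, n)`. -/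
lemma mem_Q_ZSucc (r : ℕ) (hr : ∀ p n : ℤ, P (K.E r p n)) (p n : ℤ) :
    P (Q (K.ZSub (r + 1) p n) (K.BSub r p n) (BSub_le_ZSub_succ K r p n)) := by
  let C := CSub K r p n
  have hd : (K.ZSub r (p + r) (n + 1)).Factors (C.arrow ≫ K.obj.d n (n + 1)) := by
    refine Subobject.sup_factors_of_factors_left ((mem_inf _).2
      ⟨((mem_CSub K _).1 C.factors_self).2, ?_⟩)
    rw [mem_pullback, Category.assoc, HomologicalComplex.d_comp_d, comp_zero]
    exact Subobject.factors_zero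
  obtain ⟨ψ, hψ⟩ := exists_desc (h := K.BSub_le_ZSub r p n) C le_sup_left
    (sup_le_sup_left (le_sup_right : K.filX (p + 1) n ≤ K.BSub r p n) C)
    (cls _ _ (K.BSub_le_ZSub r (p + r) (n + 1)) _ hd) (fun W x hx hB => by
      rw [cls_comp, cls_eq_zero]
      obtain ⟨W', π, _, y, g, -, -, hg, e⟩ :=
        decomp_BSub K (q := p - r + 1) (i := n - 1) rfl rfl x hB
      refine factors_of_epi _ π _ ?_
      have e' : π ≫ C.factorThru x hx ≫ C.arrow ≫ K.obj.d n (n + 1) = g ≫ K.obj.d n (n + 1) := by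
        rw [Subobject.factorThru_arrow_assoc, reassoc_of% e, Preadditive.add_comp, Category.assoc,
          HomologicalComplex.d_comp_d, comp_zero, zero_add]
      rw [e']
      refine mem_BSub_core K (by ring) (by ring) g hg ?_
      rw [← e', Subobject.factorThru_arrow_assoc]
      exact Subobject.factors_of_factors_right π ((mem_CSub K x).1 hx).2)
  have hψ' : ∀ ⦃W : A⦄ (x : W ⟶ K.obj.X n) (hx : C.Factors x) (hd' : _),
      cls _ _ (K.BSub_le_ZSub r p n) x (Subobject.factors_of_le x le_sup_left hx) ≫ ψ =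
        cls _ _ (K.BSub_le_ZSub r (p + r) (n + 1)) (x ≫ K.obj.d n (n + 1)) hd' := fun W x hx hd' => by
    rw [hψ x hx, cls_comp]
    exact cls_congr (Subobject.factorThru_arrow_assoc _ _ _ _) _
  let j : Q (K.ZSub (r + 1) p n) (K.BSub r p n) (BSub_le_ZSub_succ K r p n) ⟶
      Q (K.ZSub r p n) (K.BSub r p n) (K.BSub_le_ZSub r p n) :=
    cokernel.map _ _ (𝟙 _) (Subobject.ofLE _ _ (ZSub_succ_le K r p n)) (by simp)
  have hj : ∀ ⦃W : A⦄ (x : W ⟶ K.obj.X n) (hx : (K.ZSub (r + 1) p n).Factors x),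
      cls _ _ (BSub_le_ZSub_succ K r p n) x hx ≫ j =
        cls _ _ (K.BSub_le_ZSub r p n) x (Subobject.factors_of_le x (ZSub_succ_le K r p n) hx) := by
    intro W x hx
    simp only [cls, j, Category.assoc, cokernel.π_desc]
    rw [← Category.assoc]
    congr 1
    rw [← cancel_mono (K.ZSub r p n).arrow]
    simp
  haveI : Mono j := Preadditive.mono_of_cancel_zero _ fun q hq => by
    obtain ⟨W', π, _, x, hx, e⟩ := cls_surj q
    refine zero_of_epi_comp π ?_
    rw [e, cls_eq_zero]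
    have := congrArg (π ≫ ·) hq
    rw [← Category.assoc, e, hj, comp_zero] at this
    exact (cls_eq_zero _ _).1 this
  have w : j ≫ ψ = 0 := by
    have hall : ∀ ⦃W : A⦄ (q : W ⟶ Q _ _ (BSub_le_ZSub_succ K r p n)), q ≫ j ≫ ψ = 0 := by
      intro W q
      obtain ⟨W₁, π₁, _, x, hx, e⟩ := cls_surj q
      obtain ⟨W₂, π₂, _, a, g, ha, hg, e'⟩ := (mem_sup x).1 hx
      refine zero_of_epi_comp (π₂ ≫ π₁) ?_
      rw [mem_inf, mem_pullback] at ha
      have ha' : C.Factors a := (mem_CSub K a).2 ⟨ha.1, Subobject.factors_of_le _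
        (K.filX_anti (n + 1) (by simp)) ha.2⟩
      have haZ : (K.ZSub r p n).Factors a := Subobject.factors_of_le a le_sup_left ha'
      have key : cls _ _ (K.BSub_le_ZSub r p n) (π₂ ≫ x) (Subobject.factors_of_le _
          (ZSub_succ_le K r p n) (Subobject.factors_of_factors_right π₂ hx)) =
          cls _ _ (K.BSub_le_ZSub r p n) a haZ := by
        refine cls_eq_of_sub _ _ ?_
        rw [e', add_sub_cancel_left]
        exact Subobject.sup_factors_of_factors_right hg
      have hd' : (K.ZSub r (p + r) (n + 1)).Factors (a ≫ K.obj.d n (n + 1)) := by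
        rw [← C.factorThru_arrow a ha', Category.assoc]
        exact Subobject.factors_of_factors_right _ hd
      rw [Category.assoc, reassoc_of% e, ← Category.assoc (cls _ _ _ x hx), hj, ← Category.assoc π₂,
        cls_comp, key, hψ' a ha' hd', cls_eq_zero]
      refine Subobject.sup_factors_of_factors_right (Subobject.factors_of_le _
        (K.filX_anti (n + 1) ?_) ha.2)
      omega
    simpa using hall (𝟙 _)
  refine mem_kernel_of P h0 hP j ψ w ?_ (hr p n) (hr (p + r) (n + 1))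
  rw [ShortComplex.exact_iff_exact_up_to_refinements]
  intro W (q : W ⟶ Q (K.ZSub r p n) (K.BSub r p n) (K.BSub_le_ZSub r p n)) (hq : q ≫ ψ = 0)
  obtain ⟨W₁, π₁, _, x, hx, e⟩ := cls_surj q
  obtain ⟨W₂, π₂, _, a, g, ha, hg, e'⟩ := (mem_sup x).1 hx
  have haZ : (K.ZSub r p n).Factors a := Subobject.factors_of_le a le_sup_left ha
  have hd' : (K.ZSub r (p + r) (n + 1)).Factors (a ≫ K.obj.d n (n + 1)) := by
    rw [← C.factorThru_arrow a ha, Category.assoc]
    exact Subobject.factors_of_factors_right _ hd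
  have key : π₂ ≫ cls _ _ (K.BSub_le_ZSub r p n) x hx = cls _ _ (K.BSub_le_ZSub r p n) a haZ := by
    rw [cls_comp]
    refine cls_eq_of_sub _ _ ?_
    rw [e', add_sub_cancel_left]
    exact Subobject.sup_factors_of_factors_right hg
  have hz : (K.BSub r (p + r) (n + 1)).Factors (a ≫ K.obj.d n (n + 1)) := by
    rw [← cls_eq_zero (h := K.BSub_le_ZSub r (p + r) (n + 1)) _ hd', ← hψ' a ha hd', ← key,
      Category.assoc, ← reassoc_of% e]
    rw [hq, comp_zero, comp_zero]
  obtain ⟨W₃, π₃, _, y, g', hy, -, hg', e''⟩ :=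
    decomp_BSub K (q := p + 1) (i := n) (by ring) (by ring) _ hz
  -- `a - y` lies in the next numerator
  have h1 : (K.ZSub (r + 1) p n).Factors (π₃ ≫ a - y) := by
    refine Subobject.sup_factors_of_factors_left ((mem_inf _).2 ⟨factors_sub
      (Subobject.factors_of_factors_right π₃ ((mem_CSub K a).1 ha).1)
      (Subobject.factors_of_le _ (K.filX_anti n (by simp)) hy), (mem_pullback _ _ _).2 ?_⟩)
    rw [Preadditive.sub_comp, Category.assoc, e'', add_sub_cancel_left]
    exact Subobject.factors_of_le _ (K.filX_anti (n + 1) (by simp; omega)) hg'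
  refine ⟨W₃, π₃ ≫ π₂ ≫ π₁, inferInstance, cls _ _ (BSub_le_ZSub_succ K r p n) _ h1, ?_⟩
  show (π₃ ≫ π₂ ≫ π₁) ≫ q = cls _ _ (BSub_le_ZSub_succ K r p n) _ h1 ≫ j
  rw [hj, Category.assoc, Category.assoc, e, key, cls_comp]
  refine cls_eq_of_sub _ _ ?_
  rw [sub_sub_cancel]
  exact Subobject.sup_factors_of_factors_right hy

include h0 hP in
/-- The class of the terms of the next page. -/
lemma mem_E_succ (r : ℕ) (hr : ∀ p n : ℤ, P (K.E r p n)) (p n : ℤ) : P (K.E (r + 1) p n) := by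
  obtain ⟨n, rfl⟩ : ∃ m, n = m + 1 := ⟨n - 1, by ring⟩
  obtain ⟨p, rfl⟩ : ∃ s : ℤ, p = s + r := ⟨p - r, by ring⟩
  let C := CSub K r p n
  have hq := mem_Q_ZSucc K P h0 hP r hr (p + r) (n + 1)
  let g : Q _ _ (BSub_le_ZSub_succ K r (p + r) (n + 1)) ⟶
      Q _ _ (K.BSub_le_ZSub (r + 1) (p + r) (n + 1)) :=
    cokernel.map _ _ (Subobject.ofLE _ _ (BSub_le_succ K r (p + r) (n + 1))) (𝟙 _) (by simp)
  have hg : ∀ ⦃W : A⦄ (x : W ⟶ K.obj.X (n + 1)) (hx : (K.ZSub (r + 1) (p + r) (n + 1)).Factors x),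
      cls _ _ (BSub_le_ZSub_succ K r (p + r) (n + 1)) x hx ≫ g =
        cls _ _ (K.BSub_le_ZSub (r + 1) (p + r) (n + 1)) x hx := fun W x hx => by
    simp only [cls, g, Category.assoc, cokernel.π_desc, Category.id_comp]
  haveI : Epi g := epi_of_epi_fac (f := cokernel.π _)
    (h := cokernel.π ((K.BSub (r + 1) (p + r) (n + 1)).ofLE _ (K.BSub_le_ZSub _ _ _)))
    (by simp [g])
  have hd : (K.ZSub (r + 1) (p + r) (n + 1)).Factors (C.arrow ≫ K.obj.d n (n + 1)) := by
    refine Subobject.sup_factors_of_factors_left ((mem_inf _).2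
      ⟨((mem_CSub K _).1 C.factors_self).2, ?_⟩)
    rw [mem_pullback, Category.assoc, HomologicalComplex.d_comp_d, comp_zero]
    exact Subobject.factors_zero
  obtain ⟨ψ, hψ⟩ := exists_desc (h := K.BSub_le_ZSub r p n) C le_sup_left
    (sup_le_sup_left (le_sup_right : K.filX (p + 1) n ≤ K.BSub r p n) C)
    (cls _ _ (BSub_le_ZSub_succ K r (p + r) (n + 1)) _ hd) (fun W x hx hB => by
      rw [cls_comp, cls_eq_zero]
      obtain ⟨W', π, _, y, g, -, -, hg, e⟩ :=
        decomp_BSub K (q := p - r + 1) (i := n - 1) rfl rfl x hB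
      refine factors_of_epi _ π _ ?_
      have e' : π ≫ C.factorThru x hx ≫ C.arrow ≫ K.obj.d n (n + 1) = g ≫ K.obj.d n (n + 1) := by
        rw [Subobject.factorThru_arrow_assoc, reassoc_of% e, Preadditive.add_comp, Category.assoc,
          HomologicalComplex.d_comp_d, comp_zero, zero_add]
      rw [e']
      refine mem_BSub_core K (by ring) (by ring) g hg ?_
      rw [← e', Subobject.factorThru_arrow_assoc]
      exact Subobject.factors_of_factors_right π ((mem_CSub K x).1 hx).2)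
  have hψ' : ∀ ⦃W : A⦄ (x : W ⟶ K.obj.X n) (hx : C.Factors x) (hd' : _),
      cls _ _ (K.BSub_le_ZSub r p n) x (Subobject.factors_of_le x le_sup_left hx) ≫ ψ =
        cls _ _ (BSub_le_ZSub_succ K r (p + r) (n + 1)) (x ≫ K.obj.d n (n + 1)) hd' := fun W x hx hd' => by
    rw [hψ x hx, cls_comp]
    exact cls_congr (Subobject.factorThru_arrow_assoc _ _ _ _) _
  have w : ψ ≫ g = 0 := by
    have hall : ∀ ⦃W : A⦄ (q : W ⟶ Q _ _ (K.BSub_le_ZSub r p n)), q ≫ ψ ≫ g = 0 := by
      intro W q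
      obtain ⟨W₁, π₁, _, x, hx, e⟩ := cls_surj (h := K.BSub_le_ZSub r p n) q
      obtain ⟨W₂, π₂, _, a, b, ha, hb, e'⟩ := (mem_sup x).1 hx
      refine zero_of_epi_comp (π₂ ≫ π₁) ?_
      have haZ : (K.ZSub r p n).Factors a := Subobject.factors_of_le a le_sup_left ha
      have hd' : (K.ZSub (r + 1) (p + r) (n + 1)).Factors (a ≫ K.obj.d n (n + 1)) := by
        rw [← C.factorThru_arrow a ha, Category.assoc]
        exact Subobject.factors_of_factors_right _ hd
      have key : cls _ _ (K.BSub_le_ZSub r p n) (π₂ ≫ x) (Subobject.factors_of_factors_right π₂ hx) =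
          cls _ _ (K.BSub_le_ZSub r p n) a haZ := by
        refine cls_eq_of_sub _ _ ?_
        rw [e', add_sub_cancel_left]
        exact Subobject.sup_factors_of_factors_right hb
      rw [Category.assoc, reassoc_of% e, ← Category.assoc π₂, cls_comp, key, ← Category.assoc,
        hψ' a ha hd', hg, cls_eq_zero]
      refine mem_BSub_core K ?_ (by ring) a (Subobject.factors_of_le _ inf_le_left ha)
        ((mem_CSub K a).1 ha).2
      push_cast; ring
    simpa using hall (𝟙 _)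
  have hrp : P (Q _ _ (K.BSub_le_ZSub r p n)) := hr p n
  refine @mem_cokernel_of _ _ _ P _ h0 hP _ _ _ ψ g w ?_ ‹Epi g› hrp hq
  rw [ShortComplex.exact_iff_exact_up_to_refinements]
  intro W (q : W ⟶ Q _ _ (BSub_le_ZSub_succ K r (p + r) (n + 1))) (hq' : q ≫ g = 0)
  obtain ⟨W₁, π₁, _, x, hx, e⟩ := cls_surj q
  have hz : (K.BSub (r + 1) (p + r) (n + 1)).Factors x := by
    rw [← cls_eq_zero (h := K.BSub_le_ZSub (r + 1) (p + r) (n + 1)) _ hx, ← hg, ← e, Category.assoc]
    rw [hq', comp_zero]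
  obtain ⟨W₂, π₂, _, y, g', hy, hyd, hg', e''⟩ :=
    decomp_BSub K (q := p) (i := n) (by push_cast; ring) (by ring) _ hz
  have hyC : C.Factors y := (mem_CSub K y).2 ⟨hy, hyd⟩
  have hd' : (K.ZSub (r + 1) (p + r) (n + 1)).Factors (y ≫ K.obj.d n (n + 1)) := by
    rw [← C.factorThru_arrow y hyC, Category.assoc]
    exact Subobject.factors_of_factors_right _ hd
  refine ⟨W₂, π₂ ≫ π₁, inferInstance,
    cls _ _ (K.BSub_le_ZSub r p n) y (Subobject.factors_of_le y le_sup_left hyC), ?_⟩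
  show (π₂ ≫ π₁) ≫ q = cls _ _ (K.BSub_le_ZSub r p n) y _ ≫ ψ
  rw [hψ' y hyC hd', Category.assoc, e, cls_comp]
  refine cls_eq_of_sub _ _ ?_
  rw [e'', add_sub_cancel_left]
  exact Subobject.sup_factors_of_factors_right hg'

/-! ## The graded pieces of cohomology -/

/-- The class of a cycle. -/
noncomputable def cyc {n : ℤ} {W : A} (x : W ⟶ K.obj.X n) (hx : x ≫ K.obj.d n (n + 1) = 0) :
    W ⟶ K.obj.homology n :=
  K.obj.liftCycles x (n + 1) (CochainComplex.next _ _) hx ≫ K.obj.homologyπ n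

lemma cyc_comp {n : ℤ} {W W' : A} (π : W' ⟶ W) (x : W ⟶ K.obj.X n)
    (hx : x ≫ K.obj.d n (n + 1) = 0) :
    π ≫ cyc K x hx = cyc K (π ≫ x) (by rw [Category.assoc, hx, comp_zero]) := by
  rw [cyc, cyc, ← Category.assoc]
  congr 1
  rw [← cancel_mono (K.obj.iCycles n)]
  simp

lemma cyc_congr {n : ℤ} {W : A} {x y : W ⟶ K.obj.X n} (e : x = y)
    (hx : x ≫ K.obj.d n (n + 1) = 0) : cyc K x hx = cyc K y (e ▸ hx) := by subst e; rfl

lemma homologyMap_cyc {p n : ℤ} {W : A} (z : W ⟶ (F K p).X n)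
    (hz : z ≫ (F K p).d n (n + 1) = 0) :
    ((F K p).liftCycles z (n + 1) (CochainComplex.next _ _) hz ≫ (F K p).homologyπ n) ≫
        HomologicalComplex.homologyMap (ι K p) n =
      cyc K (z ≫ (ι K p).f n) (by
        rw [Category.assoc, HomologicalComplex.Hom.comm, reassoc_of% hz, zero_comp]) := by
  rw [Category.assoc, HomologicalComplex.homologyπ_naturality, ← Category.assoc, cyc]
  congr 1
  rw [← cancel_mono (K.obj.iCycles n)]
  simp

lemma cyc_mem {p n : ℤ} {W : A} (x : W ⟶ K.obj.X n) (hx : x ≫ K.obj.d n (n + 1) = 0)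
    (hp : (K.filX p n).Factors x) : (K.filH p n).Factors (cyc K x hx) := by
  obtain ⟨z, rfl⟩ := (mem_filX K x).1 hp
  have hz : z ≫ (F K p).d n (n + 1) = 0 := by
    rw [← cancel_mono ((ι K p).f (n + 1)), zero_comp, Category.assoc,
      ← HomologicalComplex.Hom.comm, ← Category.assoc, hx]
  exact (mem_filH K _).2 ⟨W, 𝟙 _, inferInstance, _, by rw [Category.id_comp, homologyMap_cyc K z hz]⟩

lemma filH_decomp {p n : ℤ} {W : A} (q : W ⟶ K.obj.homology n) (hq : (K.filH p n).Factors q) :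
    ∃ (W' : A) (π : W' ⟶ W) (_ : Epi π) (x : W' ⟶ K.obj.X n) (hx : x ≫ K.obj.d n (n + 1) = 0),
      (K.filX p n).Factors x ∧ π ≫ q = cyc K x hx := by
  obtain ⟨W₁, π₁, _, y, hy⟩ := (mem_filH K q).1 hq
  obtain ⟨W₂, π₂, _, z, hz, e⟩ :=
    (F K p).eq_liftCycles_homologyπ_up_to_refinements y (n + 1) (CochainComplex.next _ _)
  refine ⟨W₂, π₂ ≫ π₁, inferInstance, z ≫ (ι K p).f n, ?_, filX_comp K z, ?_⟩
  · rw [Category.assoc, HomologicalComplex.Hom.comm, reassoc_of% hz, zero_comp]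
  · rw [Category.assoc, hy, reassoc_of% e, ← homologyMap_cyc K z hz, Category.assoc]

include h0 hP in
lemma mem_homology (hK : ∀ n : ℤ, (K.XFil n).IsFinite) (r : ℕ) (hr : ∀ p n : ℤ, P (K.E r p n))
    (n : ℤ) : P (K.obj.homology n) := by
  have hs : ∀ s, r ≤ s → ∀ p n : ℤ, P (K.E s p n) := fun s hs => by
    induction hs with
    | refl => exact hr
    | step _ ih => exact mem_E_succ K P h0 hP _ ih
  -- the graded pieces
  have hBZ : ∀ p : ℤ, K.BBot p n ≤ K.ZTop p n := fun p => sup_le_sup_right (inf_le_inf_left _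
    (le_kernelSubobject _ _ (imageSubobject_arrow_comp_eq_zero (K.obj.d_comp_d _ _ _)))) _
  have hE : ∀ p : ℤ, P (Q (K.ZTop p n) (K.BBot p n) (hBZ p)) := fun p => by
    obtain ⟨b, hb⟩ := exists_bot hK (n + 1)
    obtain ⟨a, ha⟩ := exists_top hK (n - 1)
    let s := max r (max (b - p).toNat (p + 1 - a).toNat)
    have eZ : K.ZSub s p n = K.ZTop p n := by
      rw [FilCx.ZSub, FilCx.ZTop, hb (p + s) (by omega)]
      congr 2
      refine le_antisymm (le_of_mem fun W x hx => ?_) (FilCx.kernelSubobject_le_pullback _ _)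
      rw [mem_pullback, Subobject.bot_factors_iff_zero] at hx
      exact (mem_kernel _ _).2 hx
    have eB : K.BSub s p n = K.BBot p n := by
      rw [FilCx.BSub, FilCx.BBot]
      congr 2
      have htop := ha (p - s + 1) (by omega)
      refine le_antisymm (imageSubobject_comp_le _ _) (le_of_mem fun W x hx => ?_)
      obtain ⟨W', π, hπ, y, hy⟩ := (mem_image x).1 hx
      exact (mem_image x).2 ⟨W', π, hπ,
        (K.filX (p - s + 1) (n - 1)).factorThru y (htop ▸ Subobject.top_factors _),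
        by rw [hy, Subobject.factorThru_arrow_assoc]⟩
    have key : ∀ (Z B : Subobject (K.obj.X n)) (h : B ≤ Z), Z = K.ZSub s p n → B = K.BSub s p n →
        P (Q Z B h) := by
      rintro _ _ h rfl rfl
      exact hs s (le_max_left _ _) p n
    exact key _ _ _ eZ.symm eB.symm
  have hgr : ∀ p : ℤ, P (Q (K.filH p n) (K.filH (p + 1) n) (K.filH_anti n (by simp))) := fun p => by
    let C := K.filX p n ⊓ kernelSubobject (K.obj.d n (n + 1))
    have hCd : C.arrow ≫ K.obj.d n (n + 1) = 0 :=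
      (mem_kernel _ _).1 ((mem_inf _).1 C.factors_self).2
    obtain ⟨ψ, hψ⟩ := exists_desc (h := hBZ p) C le_sup_left
      (sup_le_sup_left (le_sup_right : K.filX (p + 1) n ≤ K.BBot p n) C)
      (cls _ _ (K.filH_anti n (show p ≤ p + 1 by simp)) (cyc K C.arrow hCd)
        (cyc_mem K _ hCd ((mem_inf _).1 C.factors_self).1)) (fun W x hx hB => by
        rw [cls_comp, cls_eq_zero]
        obtain ⟨W', π, _, a, g, ha, hg, e⟩ := (mem_sup x).1 hB
        rw [mem_inf] at ha
        obtain ⟨W'', π', _, y, hy⟩ := (mem_image a).1 ha.2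
        refine factors_of_epi _ (π' ≫ π) _ ?_
        rw [cyc_comp, cyc_comp]
        have hxd : x ≫ K.obj.d n (n + 1) = 0 := (mem_kernel _ _).1 ((mem_inf _).1 hx).2
        have hgd : (π' ≫ g) ≫ K.obj.d n (n + 1) = 0 := by
          have h2 := congrArg (fun t => (π' ≫ t) ≫ K.obj.d n (n + 1)) e
          simp only [Preadditive.comp_add, Preadditive.add_comp, Category.assoc, hxd, comp_zero,
            reassoc_of% hy, HomologicalComplex.d_comp_d, zero_add] at h2
          rw [Category.assoc, ← h2]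
        have e2 : cyc K ((π' ≫ π) ≫ C.factorThru x hx ≫ C.arrow)
            (by simp [hxd]) = cyc K (π' ≫ g) hgd := by
          rw [cyc, cyc, K.obj.liftCycles_comp_homologyπ_eq_iff_up_to_refinements (n - 1) n (n + 1)
            (CochainComplex.prev _ _) (CochainComplex.next _ _)]
          refine ⟨_, 𝟙 _, inferInstance, y, ?_⟩
          simp [e, hy, add_comm]
        rw [e2]
        exact cyc_mem K _ hgd (Subobject.factors_of_factors_right π' hg))
    have hψ' : ∀ ⦃W : A⦄ (x : W ⟶ K.obj.X n) (hx : C.Factors x) (hxd : _) (hm : _),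
        cls _ _ (hBZ p) x (Subobject.factors_of_le x le_sup_left hx) ≫ ψ =
          cls _ _ (K.filH_anti n (show p ≤ p + 1 by simp)) (cyc K x hxd) hm := fun W x hx hxd hm => by
      rw [hψ x hx, cls_comp]
      exact cls_congr ((cyc_comp K _ _ _).trans (cyc_congr K (Subobject.factorThru_arrow _ _ _) _)) _
    haveI : Epi ψ := by
      rw [epi_iff_surjective_up_to_refinements]
      intro W q
      obtain ⟨W₁, π₁, _, h, hh, e⟩ := cls_surj q
      obtain ⟨W₂, π₂, _, x, hxd, hxp, e'⟩ := filH_decomp K h hh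
      have hxC : C.Factors x := (mem_inf _).2 ⟨hxp, (mem_kernel _ _).2 hxd⟩
      refine ⟨W₂, π₂ ≫ π₁, inferInstance, cls _ _ (hBZ p) x (Subobject.factors_of_le x le_sup_left hxC), ?_⟩
      rw [hψ' x hxC hxd (cyc_mem K x hxd hxp), Category.assoc, e, cls_comp]
      exact cls_congr e' _
    haveI : Mono ψ := Preadditive.mono_of_cancel_zero _ fun q hq => by
      obtain ⟨W₁, π₁, _, x, hx, e⟩ := cls_surj q
      obtain ⟨W₂, π₂, _, a, g, ha, hg, e'⟩ := (mem_sup x).1 hx
      have haZ : (K.ZTop p n).Factors a := Subobject.factors_of_le a le_sup_left ha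
      have hxa : cls _ _ (hBZ p) (π₂ ≫ x) (Subobject.factors_of_factors_right π₂ hx) =
          cls _ _ (hBZ p) a haZ := by
        refine cls_eq_of_sub _ _ ?_
        rw [e', add_sub_cancel_left]
        exact Subobject.sup_factors_of_factors_right hg
      have had : a ≫ K.obj.d n (n + 1) = 0 := (mem_kernel _ _).1 ((mem_inf _).1 ha).2
      have hz : (K.filH (p + 1) n).Factors (cyc K a had) := by
        rw [← cls_eq_zero (h := K.filH_anti n (show p ≤ p + 1 by simp)) _
          (cyc_mem K a had ((mem_inf _).1 ha).1), ← hψ' a ha had, ← hxa, ← cls_comp (h := hBZ p) π₂ x hx, ← e]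
        simp [hq]
      obtain ⟨W₃, π₃, _, c, hcd, hcp, e''⟩ := filH_decomp K _ hz
      rw [cyc_comp, cyc, cyc, K.obj.liftCycles_comp_homologyπ_eq_iff_up_to_refinements (n - 1) n (n + 1)
        (CochainComplex.prev _ _) (CochainComplex.next _ _)] at e''
      obtain ⟨W₄, π₄, _, y, hy⟩ := e''
      refine zero_of_epi_comp (π₄ ≫ π₃ ≫ π₂ ≫ π₁) ?_
      rw [Category.assoc, Category.assoc, Category.assoc, e, cls_comp, hxa, cls_comp, cls_comp,
        cls_eq_zero, hy, add_comm]
      refine (mem_sup _).2 ⟨W₄, 𝟙 _, inferInstance, y ≫ K.obj.d (n - 1) n, π₄ ≫ c, (mem_inf _).2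
        ⟨?_, (mem_image _).2 ⟨W₄, 𝟙 _, inferInstance, y, by simp⟩⟩,
        Subobject.factors_of_factors_right π₄ hcp, Category.id_comp _⟩
      rw [show y ≫ K.obj.d (n - 1) n = π₄ ≫ π₃ ≫ a - π₄ ≫ c by rw [hy, add_sub_cancel_left]]
      exact factors_sub
        (Subobject.factors_of_factors_right π₄ (Subobject.factors_of_factors_right π₃ ((mem_inf _).1 ha).1))
        (Subobject.factors_of_le _ (K.filX_anti n (by simp)) (Subobject.factors_of_factors_right π₄ hcp))
    haveI := isIso_of_mono_of_epi ψ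
    exact P.prop_of_iso (asIso ψ) (hE p)
  obtain ⟨⟨a, ha⟩, b, hb⟩ := hFil_finite hK n
  have hbot : P ((K.filH b n : A)) := by
    obtain ⟨O, hO, pO⟩ := h0
    refine P.prop_of_iso (hO.iso ?_) pO
    rw [IsZero.iff_id_eq_zero, ← cancel_mono (K.filH b n).arrow, zero_comp, Category.id_comp]
    exact (Subobject.bot_factors_iff_zero _).1
      (Subobject.factors_of_le _ hb.le (K.filH b n).factors_self)
  have hall : ∀ k : ℕ, P ((K.filH (b - k) n : A)) := by
    intro k
    induction k with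
    | zero =>
      rw [Nat.cast_zero, sub_zero]
      exact hbot
    | succ k ih =>
      obtain ⟨p, hp⟩ : ∃ p, b - ((k + 1 : ℕ) : ℤ) = p := ⟨_, rfl⟩
      rw [show b - (k : ℤ) = p + 1 by omega] at ih
      rw [hp]
      exact mem_ext_of P h0 hP _ _ (cokernel.condition (Subobject.ofLE _ _
        (K.filH_anti n (show p ≤ p + 1 by simp))))
        (ShortComplex.exact_of_g_is_cokernel _ (cokernelIsCokernel _)) ih (hgr p)
  have htop : P ((K.filH a n : A)) := by
    rcases le_total a b with hab | hab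
    · obtain ⟨k, hk⟩ := Int.eq_ofNat_of_zero_le (sub_nonneg.2 hab)
      rw [show a = b - (k : ℤ) by omega]
      exact hall k
    · rw [show K.filH a n = K.filH b n from le_antisymm (K.filH_anti n hab)
        (le_top.trans (ha.ge : ⊤ ≤ K.filH a n))]
      exact hbot
  haveI : IsIso (K.filH a n).arrow := (Subobject.isIso_arrow_iff_eq_top _).2 ha
  exact P.prop_of_iso (asIso (K.filH a n).arrow) htop

end Pages

end Groth.Agent.FilCxLib
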