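import Mathlib

/-!
# Generalised elements of subobjects in abelian categories
-/

set_option autoImplicit false

universe v u

open CategoryTheory CategoryTheory.Limits

namespace Groth.Agent.FilCxLib

variable {A : Type u} [Category.{v} A] [Abelian A] {X Y : A}

lemma le_of_mem {S T : Subobject X} (h : ∀ ⦃W : A⦄ (x : W ⟶ X), S.Factors x → T.Factors x) :
    S ≤ T := Subobject.le_of_factors (h S.arrow S.factors_self)

lemma factors_iff_comp_cokernel (S : Subobject X) {W : A} (x : W ⟶ X) :
    S.Factors x ↔ x ≫ cokernel.π S.arrow = 0 := by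
  constructor
  · intro h
    rw [← S.factorThru_arrow x h, Category.assoc, cokernel.condition, comp_zero]
  · intro h
    rw [← Abelian.monoLift_comp S.arrow x h]
    exact S.factors_comp_arrow _

lemma factors_of_epi (S : Subobject X) {W W' : A} (π : W' ⟶ W) [Epi π] (x : W ⟶ X)
    (h : S.Factors (π ≫ x)) : S.Factors x := by
  rw [factors_iff_comp_cokernel, Category.assoc] at h
  exact (factors_iff_comp_cokernel S x).2 (zero_of_epi_comp π h)

lemma factors_sub {S : Subobject X} {W : A} {x y : W ⟶ X} (hx : S.Factors x) (hy : S.Factors y) :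
    S.Factors (x - y) := by
  rw [factors_iff_comp_cokernel] at hx hy ⊢
  rw [Preadditive.sub_comp, hx, hy, sub_zero]

lemma factors_add {S : Subobject X} {W : A} {x y : W ⟶ X} (hx : S.Factors x) (hy : S.Factors y) :
    S.Factors (x + y) := Subobject.factors_add x y hx hy

lemma mem_image {f : Y ⟶ X} {W : A} (x : W ⟶ X) :
    (imageSubobject f).Factors x ↔
      ∃ (W' : A) (π : W' ⟶ W) (_ : Epi π) (y : W' ⟶ Y), π ≫ x = y ≫ f := by
  constructor
  · intro h
    obtain ⟨W', π, hπ, y, hy⟩ := surjective_up_to_refinements_of_epi (factorThruImageSubobject f)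
      ((imageSubobject f).factorThru x h)
    refine ⟨W', π, hπ, y, ?_⟩
    have := hy =≫ (imageSubobject f).arrow
    simpa using this
  · rintro ⟨W', π, _, y, hy⟩
    refine factors_of_epi _ π x ?_
    rw [hy]
    simpa using Subobject.factors_comp_arrow (P := imageSubobject f) (y ≫ factorThruImageSubobject f)

lemma mem_sup {S T : Subobject X} {W : A} (x : W ⟶ X) :
    (S ⊔ T).Factors x ↔
      ∃ (W' : A) (π : W' ⟶ W) (_ : Epi π) (a b : W' ⟶ X),
        S.Factors a ∧ T.Factors b ∧ π ≫ x = a + b := by
  constructor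
  · intro h
    have hle : S ⊔ T ≤ imageSubobject (biprod.desc S.arrow T.arrow) := sup_le
      (le_of_mem fun W' y hy => (mem_image y).2
        ⟨W', 𝟙 _, inferInstance, S.factorThru y hy ≫ biprod.inl, by simp⟩)
      (le_of_mem fun W' y hy => (mem_image y).2
        ⟨W', 𝟙 _, inferInstance, T.factorThru y hy ≫ biprod.inr, by simp⟩)
    obtain ⟨W', π, hπ, y, hy⟩ := (mem_image x).1 (Subobject.factors_of_le x hle h)
    refine ⟨W', π, hπ, (y ≫ biprod.fst) ≫ S.arrow, (y ≫ biprod.snd) ≫ T.arrow,
      Subobject.factors_comp_arrow _, Subobject.factors_comp_arrow _, ?_⟩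
    rw [hy, biprod.desc_eq]
    simp
  · rintro ⟨W', π, _, a, b, ha, hb, e⟩
    refine factors_of_epi _ π x ?_
    rw [e]
    exact factors_add (Subobject.sup_factors_of_factors_left ha)
      (Subobject.sup_factors_of_factors_right hb)

lemma mem_pullback (f : Y ⟶ X) (T : Subobject X) {W : A} (x : W ⟶ Y) :
    ((Subobject.pullback f).obj T).Factors x ↔ T.Factors (x ≫ f) := by
  have h := Subobject.isPullback f T
  constructor
  · intro hx
    rw [← Subobject.factorThru_arrow _ x hx, Category.assoc, ← h.w, ← Category.assoc]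
    exact Subobject.factors_comp_arrow _
  · intro hx
    obtain ⟨l, -, hl⟩ := h.exists_lift (T.factorThru (x ≫ f) hx) x (by simp)
    rw [← hl]
    exact Subobject.factors_comp_arrow _

lemma mem_kernel (f : X ⟶ Y) {W : A} (x : W ⟶ X) :
    (kernelSubobject f).Factors x ↔ x ≫ f = 0 := kernelSubobject_factors_iff f x

lemma mem_inf {S T : Subobject X} {W : A} (x : W ⟶ X) :
    (S ⊓ T).Factors x ↔ S.Factors x ∧ T.Factors x := Subobject.inf_factors x

lemma isZero_subquot {Z B : Subobject X} (h : B ≤ Z) (e : Z ≤ B) : IsZero (cokernel (B.ofLE Z h)) := by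
  haveI : IsIso (B.ofLE Z h) := ⟨Z.ofLE B e, by simp, by simp⟩
  exact isZero_cokernel_of_epi (B.ofLE Z h)

end Groth.Agent.FilCxLib
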